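import Cfsg.Agent.Lib.Block.NsePGL.Frame

/-!
Groups of order `q(q² - 1)`, `q` odd, whose numbers of elements of given order are those of `PGL(2,q)`:
the prime `p` is isolated and the Sylow `p`-subgroups give a sharply triply transitive action.
-/

set_option autoImplicit false

namespace Cfsg.Agent.Block.NsePGL

open MulAction Zas

universe u

variable {G : Type u} [Group G] [Finite G] {p f : ℕ}

theorem num_one : num G 1 = 1 := by
  rw [num, Nat.card_eq_one_iff_unique]
  exact ⟨⟨fun a b => Subtype.ext ((orderOf_eq_one_iff.mp a.2).trans (orderOf_eq_one_iff.mp b.2).symm)⟩,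
    ⟨⟨1, orderOf_one⟩⟩⟩

theorem even_num {k : ℕ} (hk : 3 ≤ k) : Even (num G k) := by
  have h : k.totient ∣ num G k :=
    Grp.PowCount.dvd_card_of_zpowers_closed (fun g : G => orderOf g = k)
      (fun x y hx e => by rw [← Nat.card_zpowers, e, Nat.card_zpowers]; exact hx)
      fun x hx => by rw [hx]
  exact even_iff_two_dvd.mpr ((Nat.totient_even (by omega)).two_dvd.trans h)

theorem num_eq_zero_of_zero : num G 0 = 0 := by
  rw [num, Nat.card_eq_zero]
  exact Or.inl ⟨fun g => (orderOf_pos g.1).ne' g.2⟩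

theorem sum_num {d : ℕ} (hd : d ≠ 0) :
    ∑ k ∈ d.divisors, num G k = Nat.card {g : G // g ^ d = 1} := by
  classical
  haveI := Fintype.ofFinite G
  rw [Nat.card_eq_fintype_card, Fintype.card_subtype,
    Finset.card_eq_sum_card_fiberwise (f := fun g : G => orderOf g) (t := d.divisors) fun g hg => by
      rw [Finset.mem_coe, Finset.mem_filter] at hg
      exact Finset.mem_coe.mpr (Nat.mem_divisors.mpr ⟨orderOf_dvd_of_pow_eq_one hg.2, hd⟩)]
  refine Finset.sum_congr rfl fun k hk => ?_
  rw [num, Nat.card_eq_fintype_card, Fintype.card_subtype, Finset.filter_filter]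
  congr 1
  ext g
  simp only [Finset.mem_filter, Finset.mem_univ, true_and]
  exact ⟨fun e => ⟨orderOf_dvd_iff_pow_eq_one.mp (e ▸ (Nat.mem_divisors.mp hk).1), e⟩, fun e => e.2⟩

/-- The order and the counts. -/
structure Hyp (G : Type u) [Group G] (p f : ℕ) : Prop where
  hp : p.Prime
  hp2 : p ≠ 2
  hf : 1 ≤ f
  h5 : 5 ≤ p ^ f
  hcard : Nat.card G = p ^ f * (p ^ f * p ^ f - 1)
  two : ∃ k, num G k = p ^ f * p ^ f
  vals : ∀ k, num G k = 1 ∨ num G k = p ^ f * p ^ f - 1 ∨ p ^ f ∣ num G k

namespace Hyp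

variable (d : Hyp G p f)
include d

theorem num_two : num G 2 = p ^ f * p ^ f := by
  obtain ⟨k, hk⟩ := d.two
  have hodd : Odd (p ^ f * p ^ f) := ((d.hp.odd_of_ne_two d.hp2).pow).mul (d.hp.odd_of_ne_two d.hp2).pow
  have h5 := d.h5
  have h25 : 5 ≤ p ^ f * p ^ f := h5.trans (Nat.le_mul_self _)
  rcases (show k = 0 ∨ k = 1 ∨ k = 2 ∨ 3 ≤ k by omega) with rfl | rfl | rfl | h
  · rw [num_eq_zero_of_zero] at hk; omega
  · rw [num_one] at hk; omega
  · exact hk
  · exact absurd (even_num (G := G) h) (by rw [hk]; exact Nat.not_even_iff_odd.mpr hodd)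

theorem p_dvd : p ∣ Nat.card G := by
  rw [d.hcard]
  exact Dvd.dvd.mul_right (dvd_pow_self p (Nat.one_le_iff_ne_zero.mp d.hf)) _

theorem coprime : Nat.Coprime (p ^ f) (p ^ f * p ^ f - 1) := by
  refine Nat.coprime_of_dvd fun r hr h1 h2 => hr.ne_one (Nat.dvd_one.mp ?_)
  have h5 := d.h5
  have h25 : 5 ≤ p ^ f * p ^ f := h5.trans (Nat.le_mul_self _)
  have := Nat.dvd_sub (h1.mul_right (p ^ f)) h2
  rwa [Nat.sub_sub_self (by omega)] at this

theorem num_p : num G p = p ^ f * p ^ f - 1 := by
  haveI : Fact p.Prime := ⟨d.hp⟩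
  have hsum := Grp.PowCount.dvd_card_sol _ G rfl p d.p_dvd
  rw [← sum_num d.hp.ne_zero, d.hp.divisors, Finset.sum_insert (by simp [d.hp.ne_one.symm]),
    Finset.sum_singleton, num_one] at hsum
  have hp3 : 3 ≤ p := lt_of_le_of_ne d.hp.two_le (Ne.symm d.hp2)
  have heven := even_num (G := G) hp3
  rcases d.vals p with h | h | h
  · rw [h] at heven
    exact absurd heven Nat.not_even_one
  · exact h
  · exact absurd (Nat.dvd_one.mp ((Nat.dvd_add_left ((dvd_pow_self p
      (Nat.one_le_iff_ne_zero.mp d.hf)).trans h)).mp hsum)) d.hp.ne_one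

theorem dvd_num {k : ℕ} (h1 : k ≠ 1) (hk : k ≠ p) : p ^ f ∣ num G k := by
  classical
  set q := p ^ f with hq
  have h5 := d.h5
  rw [← hq] at h5
  have h25 : q ≤ q * q := Nat.le_mul_self _
  have hv : ∀ j, num G j = 1 ∨ num G j = q * q - 1 ∨ q ∣ num G j := d.vals
  have hone : ∀ j, num G j = 1 → j = 1 := by
    intro j hj
    rcases (show j = 0 ∨ j = 1 ∨ j = 2 ∨ 3 ≤ j by omega) with rfl | rfl | rfl | h
    · rw [num_eq_zero_of_zero] at hj; omega
    · rfl
    · rw [d.num_two, ← hq] at hj; omega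
    · exact absurd (even_num (G := G) h) (by rw [hj]; exact Nat.not_even_one)
  rcases hv k with h | h | h
  · exact absurd (hone k h) h1
  · exfalso
    set N := Nat.card G
    have hN : N ≠ 0 := Nat.card_pos.ne'
    have hs : ∑ j ∈ N.divisors, num G j = N := by
      rw [sum_num hN]
      exact Nat.card_congr (Equiv.subtypeUnivEquiv fun g => pow_card_eq_one')
    set K := N.divisors.filter fun j => num G j = q * q - 1 with hK
    set R := (N.divisors.erase 1).filter fun j => ¬ num G j = q * q - 1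
    have hK1 : 1 ∉ K := fun h => by
      have := (Finset.mem_filter.mp h).2
      rw [num_one] at this
      omega
    have hR : q ∣ ∑ j ∈ R, num G j := Finset.dvd_sum fun j hj => by
      obtain ⟨hj, hne⟩ := Finset.mem_filter.mp hj
      rcases hv j with e | e | e
      · exact absurd (hone j e) (Finset.ne_of_mem_erase hj)
      · exact absurd e hne
      · exact e
    have hsplit : ∑ j ∈ N.divisors, num G j =
        1 + (K.card * (q * q - 1) + ∑ j ∈ R, num G j) := by
      rw [← Finset.add_sum_erase _ _ (Nat.one_mem_divisors.mpr hN), num_one]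
      congr 1
      rw [← Finset.sum_filter_add_sum_filter_not (N.divisors.erase 1)
        (fun j => num G j = q * q - 1), Finset.filter_erase, Finset.erase_eq_of_notMem hK1,
        Finset.sum_const_nat fun j hj => (Finset.mem_filter.mp hj).2]
    rw [hs] at hsplit
    have hpN : p ∈ N.divisors := Nat.mem_divisors.mpr ⟨d.p_dvd, hN⟩
    have hkN : k ∈ N.divisors := by
      refine Nat.mem_divisors.mpr ⟨?_, hN⟩
      have hne : num G k ≠ 0 := by omega
      obtain ⟨⟨g, hg⟩⟩ := (Nat.card_pos_iff.mp (Nat.pos_of_ne_zero hne)).1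
      exact hg ▸ orderOf_dvd_natCard g
    have h2K : 1 < K.card := Finset.one_lt_card.mpr ⟨p, Finset.mem_filter.mpr ⟨hpN, d.num_p⟩, k,
      Finset.mem_filter.mpr ⟨hkN, h⟩, Ne.symm hk⟩
    have hcK : K.card < q := by
      by_contra hc
      push Not at hc
      have := Nat.mul_le_mul_right (q * q - 1) hc
      rw [show N = q * (q * q - 1) from d.hcard] at hsplit
      omega
    obtain ⟨r, hr⟩ := hR
    rw [show N = q * (q * q - 1) from d.hcard, hr] at hsplit
    have e : K.card * (q * q - 1) + K.card = K.card * (q * q) := by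
      rw [← Nat.mul_succ]; congr 1; omega
    have e' : q * (q * q - 1) + K.card = 1 + K.card * (q * q) + q * r := by omega
    have h3 : q ∣ K.card - 1 := by
      refine ⟨K.card * q + r - (q * q - 1), ?_⟩
      rw [Nat.mul_sub, Nat.mul_add, show q * (K.card * q) = K.card * (q * q) by ring]
      omega
    have := Nat.le_of_dvd (by omega) h3
    omega
  · exact h

/-- Every element has order `p` or order dividing `q² - 1`. -/
theorem dichotomy (g : G) : g ^ (p ^ f * p ^ f - 1) = 1 ∨ orderOf g = p := by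
  classical
  have hsum := sum_num (G := G) (d := p ^ f * p ^ f - 1) (by
    have := d.h5; have := Nat.le_mul_self (p ^ f); omega)
  have hq : ∀ {k}, k ≠ 1 → k ≠ p → p ^ f ∣ num G k := fun h1 h2 => dvd_num d h1 h2
  have hcop := d.coprime
  have hnp := d.num_p
  have hdvd := Grp.PowCount.dvd_card_sol _ G rfl (p ^ f * p ^ f - 1) (d.hcard ▸ dvd_mul_left _ _)
  have hcard := d.hcard
  have h5 := d.h5
  have hpq : p ∣ p ^ f := dvd_pow_self p (Nat.one_le_iff_ne_zero.mp d.hf)
  set q := p ^ f
  have h25 : q ≤ q * q := Nat.le_mul_self _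
  have h5q : 5 ≤ q := h5
  set L := q * q - 1 with hL
  have hL1 : 1 ≤ L := by
    have : 5 * 5 ≤ q * q := Nat.mul_le_mul h5q h5q
    omega
  have hM : ∃ t, Nat.card {g : G // g ^ L = 1} = 1 + q * t := by
    rw [← hsum, ← Finset.add_sum_erase _ _ (Nat.one_mem_divisors.mpr (by omega : L ≠ 0)), num_one]
    obtain ⟨t, ht⟩ : q ∣ ∑ j ∈ L.divisors.erase 1, num G j := Finset.dvd_sum fun j hj => by
      refine hq (Finset.ne_of_mem_erase hj) fun e => ?_
      subst e
      have h1 := (Nat.mem_divisors.mp (Finset.mem_of_mem_erase hj)).1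
      exact d.hp.ne_one (Nat.dvd_one.mp (hcop ▸ Nat.dvd_gcd hpq h1))
    exact ⟨t, by rw [ht]⟩
  haveI := Fintype.ofFinite G
  set A := Finset.univ.filter fun g : G => g ^ L = 1
  set B := Finset.univ.filter fun g : G => orderOf g = p
  have hA : A.card = Nat.card {g : G // g ^ L = 1} := by
    rw [Nat.card_eq_fintype_card, Fintype.card_subtype]
  have hB : B.card = L := by rw [← hnp, num, Nat.card_eq_fintype_card, Fintype.card_subtype]
  have hdis : Disjoint A B := by
    rw [Finset.disjoint_filter]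
    intro g _ h1 h2
    have h3 := orderOf_dvd_of_pow_eq_one h1
    rw [h2] at h3
    exact d.hp.ne_one (Nat.dvd_one.mp (hcop ▸ Nat.dvd_gcd hpq h3))
  have hle : (A ∪ B).card ≤ q * L := by
    rw [← hcard, Nat.card_eq_fintype_card]
    exact Finset.card_le_univ _
  rw [Finset.card_union_of_disjoint hdis, hB, hA] at hle
  obtain ⟨j, hj⟩ := hdvd
  obtain ⟨t, ht⟩ := hM
  have hjq : j + 1 ≤ q := by
    refine Nat.le_of_mul_le_mul_right ?_ hL1
    rw [add_mul, one_mul, mul_comm j]
    omega
  have e : L * j + j = q * (q * j) := by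
    rw [← mul_assoc, ← Nat.succ_mul]; congr 1; omega
  have h3 : q ∣ j + 1 := by
    refine ⟨q * j - t, ?_⟩
    rw [Nat.mul_sub]
    omega
  have hjq' : j + 1 = q := le_antisymm hjq (Nat.le_of_dvd (by omega) h3)
  have huniv : A ∪ B = Finset.univ := by
    refine Finset.eq_univ_of_card _ ?_
    rw [Finset.card_union_of_disjoint hdis, hB, hA, hj, ← Nat.card_eq_fintype_card, hcard, ← hjq']
    ring
  have := huniv ▸ Finset.mem_univ g
  simpa [A, B] using this

/-- Nothing outside `p`-elements commutes with an element of order `p`. -/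
theorem pow_of_commute {u g : G} (hu : orderOf u = p) (hc : u * g = g * u) : g ^ p = 1 := by
  rcases d.dichotomy g with hg | hg
  · have hco : Nat.Coprime (orderOf u) (orderOf g) := by
      rw [hu]
      refine d.hp.coprime_iff_not_dvd.mpr fun h => d.hp.ne_one (Nat.dvd_one.mp ?_)
      exact d.coprime ▸ Nat.dvd_gcd (dvd_pow_self p (Nat.one_le_iff_ne_zero.mp d.hf))
        (h.trans (orderOf_dvd_of_pow_eq_one hg))
    have ho : orderOf (u * g) = p * orderOf g := by
      rw [Commute.orderOf_mul_eq_mul_orderOf_of_coprime hc hco, hu]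
    rcases d.dichotomy (u * g) with h | h
    · have h1 : p ∣ p ^ f * p ^ f - 1 :=
        (ho ▸ dvd_mul_right p (orderOf g) : p ∣ orderOf (u * g)).trans (orderOf_dvd_of_pow_eq_one h)
      exact absurd (Nat.dvd_one.mp (d.coprime ▸
        Nat.dvd_gcd (dvd_pow_self p (Nat.one_le_iff_ne_zero.mp d.hf)) h1)) d.hp.ne_one
    · have h1 : orderOf g = 1 := by
        rw [ho] at h
        exact (Nat.mul_eq_left d.hp.ne_zero).mp h
      rw [orderOf_eq_one_iff.mp h1, one_pow]
  · rw [← hg, pow_orderOf_eq_one]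

end Hyp

end Cfsg.Agent.Block.NsePGL
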