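import Cfsg.Agent.Lib.Block.Zas.SharpEven
import Cfsg.Agent.Lib.Grp.PowerCount

/-!
Element counts in groups with a frame whose two-point stabilizer has order `q - 1`, `q` odd.
-/

set_option autoImplicit false

namespace Cfsg.Agent.Block.NsePGL

open MulAction Zas

universe u v

/-- The number of elements of a given order. -/
noncomputable def num (G : Type u) [Group G] (k : ℕ) : ℕ := Nat.card {g : G // orderOf g = k}

variable {G : Type u} {Ω : Type v} [Group G] [MulAction G Ω] [Finite G] (D : Frame G Ω)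

/-- The involutions fixing `a` are the translates of the central involution. -/
theorem card_invol_fix (hn : 2 ≤ Nat.card D.F) (hodd : Odd (Nat.card D.F)) {z : G} (hz : z ∈ D.H)
    (hz1 : z ≠ 1) (hz2 : z * z = 1) :
    Nat.card {g : G // orderOf g = 2 ∧ g • D.a = D.a} = Nat.card D.F := by
  have hF : ∀ u ∈ D.F, u * u = 1 → u = 1 := fun u hu h => by
    have h1 := Nat.dvd_gcd (Subgroup.orderOf_dvd_natCard D.F hu)
      (orderOf_dvd_of_pow_eq_one (by rwa [sq] : u ^ 2 = 1))
    rwa [(Nat.coprime_two_right.mpr hodd : Nat.gcd (Nat.card D.F) 2 = 1), Nat.dvd_one,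
      orderOf_eq_one_iff] at h1
  symm
  refine Nat.card_eq_of_bijective (fun u : D.F => (⟨(u : G) * z, ?_, ?_⟩ :
    {g : G // orderOf g = 2 ∧ g • D.a = D.a})) ⟨?_, ?_⟩
  · refine orderOf_eq_prime ?_ fun e => hz1 (D.eq_one_of_mem ?_ hz)
    · have hzi : z⁻¹ = z := inv_eq_of_mul_eq_one_right hz2
      have h := D.inverts hz hz1 hz2 u.2
      rw [hzi] at h
      calc ((u : G) * z) ^ 2 = (u : G) * (z * u * z) := by rw [sq]; group
        _ = 1 := by rw [h, mul_inv_cancel]
    · have h : z = (u : G)⁻¹ := eq_inv_of_mul_eq_one_right e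
      rw [h]
      exact inv_mem u.2
  · rw [mul_smul, hz.1, D.F_fix _ u.2]
  · intro u w h
    exact Subtype.ext (mul_right_cancel (congrArg Subtype.val h))
  · rintro ⟨g, hg, hga⟩
    obtain ⟨u, hu, h, hh, rfl⟩ := D.decomp hga
    have h2 : h * h = 1 := by
      refine D.eq_one_of_mem ?_ (mul_mem hh hh)
      have e : (u * h) ^ 2 = 1 := hg ▸ pow_orderOf_eq_one (u * h)
      have e' : h * h = (h * u * h⁻¹)⁻¹ * u⁻¹ * (u * h) ^ 2 := by rw [sq]; group
      rw [e', e, mul_one]
      exact mul_mem (inv_mem (D.H_conj hh hu)) (inv_mem hu)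
    have h1 : h ≠ 1 := by
      rintro rfl
      rw [mul_one] at hg
      have := hF u hu (by rw [← sq, ← hg, pow_orderOf_eq_one])
      rw [this, orderOf_one] at hg
      omega
    refine ⟨⟨u, hu⟩, Subtype.ext ?_⟩
    show u * z = u * h
    rw [D.involution_unique hn hz hz1 hz2 hh h1 h2]

/-- The involutions are `q (N + 1)` in number, `N` of them exchanging `a` and `b`. -/
theorem card_invol (hn : 2 ≤ Nat.card D.F) (hodd : Odd (Nat.card D.F))
    (heven : Even (Nat.card D.H)) :
    num G 2 = Nat.card D.F *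
      (Nat.card {g : G // g * g = 1 ∧ g • D.a = D.b ∧ g • D.b = D.a} + 1) := by
  classical
  haveI := D.finite_points
  haveI := Fintype.ofFinite Ω
  haveI := Fintype.ofFinite G
  obtain ⟨z, hz, hz1, hz2⟩ := D.exists_involution heven
  set N := Nat.card {g : G // g * g = 1 ∧ g • D.a = D.b ∧ g • D.b = D.a}
  have hpair : ∀ x y : Ω, Nat.card {g : G // orderOf g = 2 ∧ g • x = y} =
      if x = y then Nat.card D.F else N := by
    intro x y
    split_ifs with e
    · subst e
      obtain ⟨c, hc⟩ := D.transitive D.a x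
      rw [← card_invol_fix D hn hodd hz hz1 hz2]
      refine Nat.card_congr (Equiv.subtypeEquiv (MulAut.conj c⁻¹).toEquiv fun g => ?_)
      show (orderOf g = 2 ∧ _) ↔ (orderOf ((MulAut.conj c⁻¹) g) = 2 ∧ (c⁻¹ * g * c⁻¹⁻¹) • D.a = D.a)
      rw [MulEquiv.orderOf_eq, inv_inv, mul_smul, mul_smul, hc, inv_smul_eq_iff, hc]
    · obtain ⟨c, hca, hcb⟩ := D.two D.hab e
      refine Nat.card_congr (Equiv.subtypeEquiv (MulAut.conj c⁻¹).toEquiv fun g => ?_)
      show _ ↔ ((c⁻¹ * g * c⁻¹⁻¹) * (c⁻¹ * g * c⁻¹⁻¹) = 1 ∧ _ ∧ _)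
      constructor
      · rintro ⟨hg, hgx⟩
        have hgg : g * g = 1 := by rw [← sq, ← hg, pow_orderOf_eq_one]
        have hgy : g • y = x := by rw [← hgx, ← mul_smul, hgg, one_smul]
        refine ⟨?_, ?_, ?_⟩
        · calc _ = c⁻¹ * (g * g) * c := by group
            _ = 1 := by rw [hgg]; group
        · show (c⁻¹ * g * c⁻¹⁻¹) • D.a = D.b
          rw [inv_inv, mul_smul, mul_smul, hca, hgx, inv_smul_eq_iff, hcb]
        · show (c⁻¹ * g * c⁻¹⁻¹) • D.b = D.a
          rw [inv_inv, mul_smul, mul_smul, hcb, hgy, inv_smul_eq_iff, hca]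
      · rintro ⟨h1, h2, -⟩
        change (c⁻¹ * g * c⁻¹⁻¹) • D.a = D.b at h2
        rw [inv_inv, mul_smul, mul_smul, hca, inv_smul_eq_iff, hcb] at h2
        have hgg : g * g = 1 := by
          calc g * g = c * ((c⁻¹ * g * c⁻¹⁻¹) * (c⁻¹ * g * c⁻¹⁻¹)) * c⁻¹ := by group
            _ = 1 := by rw [h1]; group
        refine ⟨orderOf_eq_prime (by rwa [sq]) fun e1 => e ?_, h2⟩
        rwa [e1, one_smul] at h2
  have hrow : ∀ x : Ω, ∑ y : Ω, Nat.card {g : G // orderOf g = 2 ∧ g • x = y} =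
      Nat.card D.F * (N + 1) := by
    intro x
    have hcard : Fintype.card Ω = Nat.card D.F + 1 := by
      rw [← Nat.card_eq_fintype_card, D.card_points]
    rw [← Finset.add_sum_erase _ _ (Finset.mem_univ x), hpair, if_pos rfl,
      Finset.sum_congr rfl fun y hy => (hpair x y).trans (if_neg (Finset.ne_of_mem_erase hy).symm),
      Finset.sum_const, Finset.card_erase_of_mem (Finset.mem_univ x), Finset.card_univ, hcard,
      smul_eq_mul, Nat.add_sub_cancel]
    ring
  have e : {g : G // orderOf g = 2} ≃ Σ y : Ω, {g : G // orderOf g = 2 ∧ g • D.a = y} :=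
    { toFun := fun g => ⟨g.1 • D.a, g.1, g.2, rfl⟩
      invFun := fun g => ⟨g.2.1, g.2.2.1⟩
      left_inv := fun g => rfl
      right_inv := by
        rintro ⟨y, g, hg, rfl⟩
        rfl }
  rw [num, Nat.card_congr e, Nat.card_sigma, hrow]

/-- All exchanging elements are involutions exactly when there are `q ^ 2` involutions. -/
theorem num_two_eq_iff (hn : 2 ≤ Nat.card D.F) (hodd : Odd (Nat.card D.F))
    (hd : Nat.card D.H = Nat.card D.F - 1) :
    num G 2 = Nat.card D.F ^ 2 ↔ ∀ g : G, g • D.a = D.b → g • D.b = D.a → g * g = 1 := by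
  have heven : Even (Nat.card D.H) := by
    obtain ⟨k, hk⟩ := hodd
    exact ⟨k, by omega⟩
  let f : {g : G // g * g = 1 ∧ g • D.a = D.b ∧ g • D.b = D.a} →
      {g : G // g • D.a = D.b ∧ g • D.b = D.a} := fun g => ⟨g.1, g.2.2⟩
  have hf : Function.Injective f := fun g g' e =>
    Subtype.ext (congrArg (fun x : {g : G // g • D.a = D.b ∧ g • D.b = D.a} => x.1) e)
  rw [card_invol D hn hodd heven, sq]
  constructor
  · intro h g hga hgb
    have h1 := Nat.eq_of_mul_eq_mul_left (by omega) h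
    obtain ⟨x, hx⟩ := ((Nat.bijective_iff_injective_and_card f).mpr
      ⟨hf, by rw [D.card_swap, hd]; omega⟩).2 ⟨g, hga, hgb⟩
    have e : x.1 = g := congrArg Subtype.val hx
    exact e ▸ x.2.1
  · intro h
    have h1 := Nat.card_eq_of_bijective f
      ⟨hf, fun g => ⟨⟨g.1, h g.1 g.2.1 g.2.2, g.2⟩, rfl⟩⟩
    rw [D.card_swap, hd] at h1
    rw [h1, Nat.sub_add_cancel (by omega)]

section Prime

variable {p f : ℕ} [Fact p.Prime] (hq : Nat.card D.F = p ^ f) (hd : Nat.card D.H = Nat.card D.F - 1)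
  (hpow : ∀ u ∈ D.F, u ^ p = 1)
include hq hd hpow

theorem mem_F_of_order (hf : 1 ≤ f) {g : G} (hg : orderOf g = p) (hga : g • D.a = D.a) : g ∈ D.F := by
  obtain ⟨u, hu, h, hh, rfl⟩ := D.decomp hga
  have key : ∀ n : ℕ, ∃ w ∈ D.F, (u * h) ^ n = w * h ^ n := by
    intro n
    induction n with
    | zero => exact ⟨1, one_mem _, by simp⟩
    | succ n ih =>
      obtain ⟨w, hw, e⟩ := ih
      refine ⟨w * (h ^ n * u * (h ^ n)⁻¹), mul_mem hw (D.H_conj (pow_mem hh n) hu), ?_⟩
      rw [pow_succ, e, pow_succ]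
      group
  obtain ⟨w, hw, e⟩ := key p
  rw [← hg, pow_orderOf_eq_one, hg] at e
  have h1 : h ^ p = 1 := D.eq_one_of_mem (by rw [eq_inv_of_mul_eq_one_right e.symm]; exact inv_mem hw)
    (pow_mem hh p)
  have h2 := Nat.dvd_gcd (orderOf_dvd_of_pow_eq_one h1) (Subgroup.orderOf_dvd_natCard D.H hh)
  have hp : Nat.Coprime p (Nat.card D.H) := by
    refine ((Fact.out : p.Prime).coprime_iff_not_dvd).mpr fun hdv => ?_
    have hq1 : p ∣ Nat.card D.F := hq ▸ dvd_pow_self p (by omega)
    have hpos : 1 ≤ Nat.card D.F := Nat.card_pos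
    exact (Fact.out : p.Prime).ne_one (Nat.dvd_one.mp (by
      have := Nat.dvd_sub hq1 (hd ▸ hdv)
      rwa [Nat.sub_sub_self hpos] at this))
  rw [hp, Nat.dvd_one, orderOf_eq_one_iff] at h2
  rw [h2, mul_one]
  exact hu

omit hq hd in
theorem fix_unique {u : G} (hu : u ∈ D.F) (hu1 : u ≠ 1) {y : Ω} (hy : u • y = y) : y = D.a := by
  by_contra h
  exact hu1 (D.F_inj hu (one_mem _) h (by rw [hy, one_smul]))

/-- The number of elements of order `p`. -/
theorem num_prime (hf : 1 ≤ f) : num G p = (Nat.card D.F + 1) * (Nat.card D.F - 1) := by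
  classical
  haveI := D.finite_points
  haveI := Fintype.ofFinite Ω
  haveI := Fintype.ofFinite G
  have hfix : ∀ g : G, orderOf g = p → ∃ x : Ω, g • x = x := by
    intro g hg
    have hP : IsPGroup p (Subgroup.zpowers g) :=
      IsPGroup.of_card (n := 1) (by rw [Nat.card_zpowers, hg, pow_one])
    have hndvd : ¬ p ∣ Nat.card Ω := by
      rw [D.card_points, hq]
      intro h
      exact (Fact.out : p.Prime).ne_one (Nat.dvd_one.mp
        ((Nat.dvd_add_right (dvd_pow_self p (by omega : f ≠ 0))).mp h))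
    obtain ⟨x, hx⟩ := hP.nonempty_fixed_point_of_prime_not_dvd_card Ω hndvd
    exact ⟨x, hx ⟨g, Subgroup.mem_zpowers g⟩⟩
  have hfib : ∀ x : Ω, Nat.card {g : G // orderOf g = p ∧ g • x = x} = Nat.card D.F - 1 := by
    intro x
    obtain ⟨c, hc⟩ := D.transitive D.a x
    have e1 : Nat.card {g : G // orderOf g = p ∧ g • x = x} =
        Nat.card {g : G // g ∈ D.F ∧ g ≠ 1} := by
      refine Nat.card_congr (Equiv.subtypeEquiv (MulAut.conj c⁻¹).toEquiv fun g => ?_)
      show _ ↔ (c⁻¹ * g * c⁻¹⁻¹ ∈ D.F ∧ c⁻¹ * g * c⁻¹⁻¹ ≠ 1)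
      constructor
      · rintro ⟨hg, hgx⟩
        have ho : orderOf ((MulAut.conj c⁻¹) g) = p := by rw [MulEquiv.orderOf_eq, hg]
        refine ⟨mem_F_of_order D hq hd hpow hf ho ?_, fun e => ?_⟩
        · show (c⁻¹ * g * c⁻¹⁻¹) • D.a = D.a
          rw [inv_inv, mul_smul, mul_smul, hc, hgx, inv_smul_eq_iff, hc]
        · rw [show (MulAut.conj c⁻¹) g = 1 from e, orderOf_one] at ho
          exact (Fact.out : p.Prime).ne_one ho.symm
      · rintro ⟨hF, hne⟩
        constructor
        · rw [← MulEquiv.orderOf_eq (MulAut.conj c⁻¹) g]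
          exact orderOf_eq_prime (hpow _ hF) hne
        · have := D.F_fix _ hF
          rwa [inv_inv, mul_smul, mul_smul, hc, inv_smul_eq_iff, hc] at this
    rw [e1, Nat.card_eq_fintype_card, Fintype.card_subtype,
      show (Finset.univ.filter fun g : G => g ∈ D.F ∧ g ≠ 1) =
        (Finset.univ.filter fun g : G => g ∈ D.F).erase 1 by ext g; simp [and_comm],
      Finset.card_erase_of_mem (by simp), Nat.card_eq_fintype_card, Fintype.card_subtype]
  have huniq : ∀ g : G, orderOf g = p → ∀ x y : Ω, g • x = x → g • y = y → x = y := by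
    intro g hg x y hx hy
    obtain ⟨c, hc⟩ := D.transitive x D.a
    have hF : c * g * c⁻¹ ∈ D.F := mem_F_of_order D hq hd hpow hf
      (by rw [← hg]; exact (MulAut.conj c).orderOf_eq g)
      (by rw [mul_smul, mul_smul, inv_smul_eq_iff.2 hc.symm, hx, hc])
    have h1 : c * g * c⁻¹ ≠ 1 := fun e => by
      rw [conj_eq_one_iff.mp e, orderOf_one] at hg
      exact (Fact.out : p.Prime).ne_one hg.symm
    have h2 := fix_unique D hpow hF h1 (y := c • y) (by rw [mul_smul, mul_smul, inv_smul_smul, hy])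
    exact smul_left_cancel c (hc.trans h2.symm)
  choose fx hfx using hfix
  have e : {g : G // orderOf g = p} ≃ Σ x : Ω, {g : G // orderOf g = p ∧ g • x = x} :=
    { toFun := fun g => ⟨fx g.1 g.2, g.1, g.2, hfx g.1 g.2⟩
      invFun := fun g => ⟨g.2.1, g.2.2.1⟩
      left_inv := fun g => rfl
      right_inv := by
        rintro ⟨x, g, hg, hgx⟩
        have := huniq g hg _ _ (hfx g hg) hgx
        subst this
        rfl }
  rw [num, Nat.card_congr e, Nat.card_sigma, Finset.sum_congr rfl fun x _ => hfib x,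
    Finset.sum_const, Finset.card_univ, smul_eq_mul, ← Nat.card_eq_fintype_card, D.card_points]

/-- All other counts are multiples of `q`. -/
theorem dvd_num (hf : 1 ≤ f) (hcomm : ∀ u ∈ D.F, ∀ w ∈ D.F, u * w = w * u) {k : ℕ} (hk1 : k ≠ 1)
    (hkp : k ≠ p) : Nat.card D.F ∣ num G k := by
  classical
  let X := {g : G // orderOf g = k}
  letI : MulAction D.F X :=
    { smul := fun u g => ⟨(u : G) * g * (u : G)⁻¹,
        ((MulAut.conj (u : G)).orderOf_eq g.1).trans g.2⟩
      one_smul := fun g => Subtype.ext (by show (1 : G) * _ * (1 : G)⁻¹ = _; group)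
      mul_smul := fun u w g => Subtype.ext (by
        show ((u : G) * w) * g.1 * ((u : G) * w)⁻¹ = (u : G) * ((w : G) * g.1 * (w : G)⁻¹) * (u : G)⁻¹
        group) }
  have hfree : ∀ (u : D.F) (g : X), u • g = g → u = 1 := by
    rintro ⟨u, hu⟩ ⟨g, hg⟩ e
    by_contra hne
    have hu1 : u ≠ 1 := fun h => hne (Subtype.ext h)
    have e' : u * g * u⁻¹ = g := congrArg Subtype.val e
    have hug : u * g = g * u := by
      conv_rhs => rw [← e']
      group
    have hga : g • D.a = D.a := fix_unique D hpow hu hu1 (by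
      rw [← mul_smul, hug, mul_smul, D.F_fix u hu])
    obtain ⟨w, hw, h, hh, rfl⟩ := D.decomp hga
    have hc : h * u * h⁻¹ = u := by
      calc h * u * h⁻¹ = w⁻¹ * ((w * h) * u) * h⁻¹ := by group
        _ = w⁻¹ * (u * (w * h)) * h⁻¹ := by rw [hug]
        _ = w⁻¹ * (u * w) := by group
        _ = u := by rw [hcomm u hu w hw, inv_mul_cancel_left]
    rcases D.fpf hh hu hc with h1 | h1
    · exact hu1 h1
    · subst h1
      rw [mul_one] at hg
      by_cases hw1 : w = 1
      · exact hk1 (by rw [← hg, hw1, orderOf_one])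
      · exact hkp (by rw [← hg, orderOf_eq_prime (hpow w hw) hw1])
  exact ⟨Nat.card (MulAction.orbitRel.Quotient D.F X), by
    rw [num, card_of_free hfree, mul_comm]⟩

end Prime

end Cfsg.Agent.Block.NsePGL
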