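import Cfsg.Agent.Lib.Block.NsePGL.Frame
import Cfsg.Agent.Lib.Recog.ProjLine

/-!
The counts of `PGL(2, F)`, `|F|` odd.
-/

set_option autoImplicit false

namespace Cfsg.Agent.Block.NsePGL

open MulAction Zas Matrix
open Cfsg.Agent.Recog

universe u

variable {F : Type u} [Field F] [Fintype F]

theorem swap_sq {g : GL (Fin 2) F} (h0 : g • (ProjLine.p0 : ProjLine.P1 F) = ProjLine.p1)
    (h1 : g • (ProjLine.p1 : ProjLine.P1 F) = ProjLine.p0) : g * g ∈ Subgroup.center (GL (Fin 2) F) := by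
  rw [ProjLine.p0, ProjLine.p1, Projectivization.smul_mk, Projectivization.mk_eq_mk_iff'] at h0 h1
  obtain ⟨a, ha⟩ := h0
  obtain ⟨b, hb⟩ := h1
  have a0 := congrFun ha 0
  have b1 := congrFun hb 1
  simp [ProjLine.e0, ProjLine.e1, Units.smul_def, Matrix.vecHead, Matrix.vecTail] at a0 b1
  have g00 : (g : Matrix (Fin 2) (Fin 2) F) 0 0 = 0 := a0.symm
  have g11 : (g : Matrix (Fin 2) (Fin 2) F) 1 1 = 0 := b1.symm
  rw [Matrix.GeneralLinearGroup.center_eq_range_scalar]
  have hne : (g : Matrix (Fin 2) (Fin 2) F) 0 1 * (g : Matrix (Fin 2) (Fin 2) F) 1 0 ≠ 0 := fun h =>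
    GeneralLinearGroup.det_ne_zero g (by rw [Matrix.det_fin_two, g00, g11, h]; ring)
  refine ⟨Units.mk0 _ hne, Units.ext (Matrix.ext fun i j => ?_)⟩
  fin_cases i <;> fin_cases j <;>
    simp [GeneralLinearGroup.coe_scalar, Matrix.mul_apply, Fin.sum_univ_two, g00, g11, Matrix.diagonal,
      mul_comm]

/-- The counts of `PGL(2, F)`. -/
theorem counts {p f : ℕ} [Fact p.Prime] (hq : Fintype.card F = p ^ f) (hf : 1 ≤ f) (hp2 : p ≠ 2)
    (h5 : 5 ≤ p ^ f) :
    let P := Matrix.ProjGenLinGroup (Fin 2) F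
    Nat.card P = p ^ f * (p ^ f * p ^ f - 1) ∧ num P 2 = p ^ f * p ^ f ∧
      (∀ k, num P k = 1 ∨ num P k = p ^ f * p ^ f - 1 ∨ p ^ f ∣ num P k) ∧
      ∃ (K : Type) (_ : Field K) (_ : Fintype K), Fintype.card K = p ^ f ∧
        Nonempty (P ≃* Matrix.ProjGenLinGroup (Fin 2) K) := by
  classical
  intro P
  haveI : Finite P := Finite.of_surjective _ Matrix.ProjGenLinGroup.mk_surjective
  obtain ⟨h3, hfree⟩ := ProjLine.pgl_three (F := F)
  have hcard : Nat.card (ProjLine.P1 F) = p ^ f + 1 := by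
    rw [Projectivization.card_of_finrank_two F (Fin 2 → F) (Module.finrank_fin_fun F),
      Nat.card_eq_fintype_card, hq]
  have hsharp : ∀ t : Fin 3 ↪ ProjLine.P1 F, stabilizer P t = ⊥ := fun t =>
    (Subgroup.eq_bot_iff_forall _).mpr fun g hg => by
      have hfix : ∀ i, g • t i = t i := fun i =>
        congrArg (fun s : Fin 3 ↪ ProjLine.P1 F => s i) (mem_stabilizer_iff.mp hg)
      exact hfree g (t 0) (t 1) (t 2) (t.injective.ne (by decide)) (t.injective.ne (by decide))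
        (t.injective.ne (by decide)) (hfix _) (hfix _) (hfix _)
  obtain ⟨D, ha, hb, hd, -⟩ := frame_of_sharp h3 hsharp
    (ProjLine.ne01 (F := F)).1 (by rw [hcard]; omega)
  have hF : Nat.card D.F = p ^ f := by
    have := D.card_points
    omega
  have hn : 2 ≤ Nat.card D.F := by omega
  have hodd : Odd (Nat.card D.F) := hF ▸ ((Fact.out : p.Prime).odd_of_ne_two hp2).pow
  have hH : D.H ≠ ⊥ := fun e => by rw [e, Subgroup.card_bot] at hd; omega
  obtain ⟨hFc, p', f', hp', hpow', hcard'⟩ := D.kernel_elementary hn hH (by omega)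
  have hpp : p' = p := by
    have h1 : p ∣ p' ^ f' := hcard' ▸ hF ▸ dvd_pow_self p (by omega : f ≠ 0)
    exact ((Nat.prime_dvd_prime_iff_eq Fact.out hp').mp
      ((Fact.out : p.Prime).dvd_of_dvd_pow h1)).symm
  subst hpp
  have hcomm : ∀ u ∈ D.F, ∀ w ∈ D.F, u * w = w * u := fun u hu w hw =>
    congrArg Subtype.val (hFc.is_comm.comm (⟨u, hu⟩ : D.F) ⟨w, hw⟩)
  have hall : ∀ g : P, g • D.a = D.b → g • D.b = D.a → g * g = 1 := by
    intro g hga hgb
    rw [ha, hb] at hga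
    rw [ha, hb] at hgb
    induction g using Matrix.ProjGenLinGroup.induction_on with
    | mk A =>
      rw [Matrix.ProjGenLinGroup.mk_smul] at hga hgb
      rw [← map_mul]
      exact (QuotientGroup.eq_one_iff _).mpr (swap_sq hga hgb)
  have hqq : (p' ^ f + 1) * (p' ^ f - 1) = p' ^ f * p' ^ f - 1 := by
    have := Nat.sq_sub_sq (p' ^ f) 1
    simpa [sq] using this.symm
  refine ⟨?_, ?_, ?_, ?_⟩
  · rw [D.card_group, hd, hF, ← hqq]
    ring
  · rw [(num_two_eq_iff D hn hodd hd).mpr hall, hF, sq]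
  · intro k
    by_cases h1 : k = 1
    · refine Or.inl ?_
      subst h1
      rw [num, Nat.card_eq_one_iff_unique]
      exact ⟨⟨fun a b => Subtype.ext
        ((orderOf_eq_one_iff.mp a.2).trans (orderOf_eq_one_iff.mp b.2).symm)⟩, ⟨⟨1, orderOf_one⟩⟩⟩
    by_cases h2 : k = p'
    · refine Or.inr (Or.inl ?_)
      rw [h2, num_prime D hF hd hpow' hf, hF, hqq]
    · exact Or.inr (Or.inr (hF ▸ dvd_num D hF hd hpow' hf hcomm h1 h2))
  · obtain ⟨s, hsa, hsb⟩ := D.two D.hab D.b_ne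
    obtain ⟨K, i1, i2, hK, hiso⟩ := D.iso_pgl_of_inverted hn hH hd (hall s hsa hsb) hsa hsb
      fun h hh => D.inversion_of_swaps hall hsa hsb hh
    exact ⟨K, i1, i2, hK.trans hF, hiso⟩

end Cfsg.Agent.Block.NsePGL
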