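import Cfsg.Agent.Lib.Block.NsePGL.Count

/-!
The action on the Sylow `p`-subgroups of a group with the counts of `PGL(2,q)`.
-/

set_option autoImplicit false

namespace Cfsg.Agent.Block.NsePGL

open MulAction Zas

universe u

namespace Hyp

variable {G : Type u} [Group G] [Finite G] {p f : ℕ} [Fact p.Prime] (d : Hyp G p f)
include d

theorem card_sylow (R : Sylow p G) : Nat.card R = p ^ f := by
  have h5 := d.h5
  have h25 : 5 * 5 ≤ p ^ f * p ^ f := Nat.mul_le_mul h5 h5
  rw [R.card_eq_multiplicity, d.hcard, Nat.factorization_mul (pow_ne_zero _ d.hp.ne_zero) (by omega),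
    Finsupp.add_apply, d.hp.factorization_pow, Finsupp.single_eq_same,
    Nat.factorization_eq_zero_of_not_dvd, add_zero]
  exact fun h => d.hp.ne_one (Nat.dvd_one.mp
    (d.coprime ▸ Nat.dvd_gcd (dvd_pow_self p (Nat.one_le_iff_ne_zero.mp d.hf)) h))

theorem order_of_mem (R : Sylow p G) {u : G} (hu : u ∈ R) (hu1 : u ≠ 1) : orderOf u = p := by
  rcases d.dichotomy u with h | h
  · have h1 : orderOf u ∣ p ^ f := d.card_sylow R ▸ Subgroup.orderOf_dvd_natCard _ hu
    have h2 := Nat.dvd_gcd h1 (orderOf_dvd_of_pow_eq_one h)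
    rw [d.coprime, Nat.dvd_one, orderOf_eq_one_iff] at h2
    exact absurd h2 hu1
  · exact h

theorem eq_of_le_cent (R : Sylow p G) {u : G} (hu : orderOf u = p)
    (hle : (R : Subgroup G) ≤ Subgroup.centralizer {u}) :
    Subgroup.centralizer {u} = (R : Subgroup G) :=
  R.is_maximal' (fun ⟨g, hg⟩ => ⟨1, Subtype.ext (by
    rw [pow_one, Subgroup.coe_pow]
    exact d.pow_of_commute hu (Subgroup.mem_centralizer_singleton_iff.mp hg).symm)⟩) hle

theorem sylow_comm (R : Sylow p G) {u v : G} (hu : u ∈ R) (hv : v ∈ R) : u * v = v * u := by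
  classical
  have hRp : IsPGroup p (R : Subgroup G) := R.isPGroup'
  haveI : Nontrivial (R : Subgroup G) := Finite.one_lt_card_iff_nontrivial.mp (by
    show 1 < Nat.card R
    rw [d.card_sylow R]; have := d.h5; omega)
  haveI := hRp.center_nontrivial
  obtain ⟨⟨⟨z, hz⟩, hzc⟩, hz1⟩ := exists_ne (1 : Subgroup.center (R : Subgroup G))
  have hz1' : z ≠ 1 := fun e => hz1 (Subtype.ext (Subtype.ext e))
  have hzo := d.order_of_mem R hz hz1'
  have hC : Subgroup.centralizer {z} = (R : Subgroup G) := d.eq_of_le_cent R hzo fun x hx =>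
    Subgroup.mem_centralizer_singleton_iff.mpr
      (congrArg Subtype.val (Subgroup.mem_center_iff.mp hzc ⟨x, hx⟩))
  -- every element of order `p` is conjugate to `z`
  let φ : G ⧸ Subgroup.centralizer ({z} : Set G) → {g : G // orderOf g = p} := fun c =>
    ⟨c.out * z * c.out⁻¹, ((MulAut.conj c.out).orderOf_eq z).trans hzo⟩
  have hφ : Function.Injective φ := by
    intro a b e
    have e' : a.out * z * a.out⁻¹ = b.out * z * b.out⁻¹ := congrArg Subtype.val e
    rw [← a.out_eq, ← b.out_eq]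
    refine QuotientGroup.eq.mpr (Subgroup.mem_centralizer_singleton_iff.mpr ?_)
    calc a.out⁻¹ * b.out * z = a.out⁻¹ * (b.out * z * b.out⁻¹) * b.out := by group
      _ = a.out⁻¹ * (a.out * z * a.out⁻¹) * b.out := by rw [e']
      _ = z * (a.out⁻¹ * b.out) := by group
  have hcardφ : Nat.card (G ⧸ Subgroup.centralizer ({z} : Set G)) =
      Nat.card {g : G // orderOf g = p} := by
    rw [← Subgroup.index_eq_card, ← show num G p = Nat.card {g : G // orderOf g = p} from rfl,
      d.num_p]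
    refine Nat.eq_of_mul_eq_mul_left (pow_pos d.hp.pos f) ?_
    rw [← d.hcard, ← (Subgroup.centralizer ({z} : Set G)).card_mul_index]
    congr 1
    rw [hC]
    exact (d.card_sylow R).symm
  obtain ⟨c, hc⟩ : ∃ c : G, c * z * c⁻¹ = z⁻¹ := by
    obtain ⟨c, hc⟩ := ((Nat.bijective_iff_injective_and_card φ).mpr ⟨hφ, hcardφ⟩).2
      ⟨z⁻¹, by rw [orderOf_inv, hzo]⟩
    exact ⟨_, congrArg Subtype.val hc⟩
  have hc2 : c ^ 2 * z = z * c ^ 2 := by
    have h1 : c * z⁻¹ * c⁻¹ = z := by rw [← conj_inv, hc, inv_inv]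
    calc c ^ 2 * z = c * (c * z * c⁻¹) * c⁻¹ * c ^ 2 := by rw [sq]; group
      _ = z * c ^ 2 := by rw [hc, h1]
  have hcR : ∀ x ∈ (R : Subgroup G), c * x * c⁻¹ ∈ (R : Subgroup G) := by
    intro x hx
    rw [← hC] at hx ⊢
    rw [Subgroup.mem_centralizer_singleton_iff] at hx ⊢
    have hcz : z = c * z⁻¹ * c⁻¹ := by rw [← conj_inv, hc, inv_inv]
    have hx' : x * z⁻¹ = z⁻¹ * x := ((show Commute x z from hx).inv_right).eq
    calc c * x * c⁻¹ * z = c * (x * z⁻¹) * c⁻¹ := by
          nth_rewrite 1 [hcz]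
          group
      _ = c * (z⁻¹ * x) * c⁻¹ := by rw [hx']
      _ = (c * z⁻¹ * c⁻¹) * (c * x * c⁻¹) := by group
      _ = z * (c * x * c⁻¹) := by rw [← hcz]
  have heven : Even (orderOf c) := by
    by_contra h
    obtain ⟨k, hk⟩ := exists_pow_eq_self_of_coprime (x := c) (n := 2)
      (Nat.coprime_two_left.mpr (Nat.not_even_iff_odd.mp h))
    have hcC : c ∈ Subgroup.centralizer ({z} : Set G) := by
      rw [← hk]
      exact pow_mem (Subgroup.mem_centralizer_singleton_iff.mpr hc2) k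
    rw [Subgroup.mem_centralizer_singleton_iff] at hcC
    rw [hcC, mul_inv_cancel_right] at hc
    have h2 : z ^ 2 = 1 := by
      rw [sq]; nth_rewrite 1 [hc]; exact inv_mul_cancel z
    have := Nat.le_of_dvd (by norm_num) (hzo ▸ orderOf_dvd_of_pow_eq_one h2)
    have := d.hp.two_le
    have := d.hp2
    omega
  obtain ⟨k, hk⟩ := heven
  set t := c ^ k
  have hk0 : k ≠ 0 := by have := orderOf_pos c; omega
  have ht2 : t * t = 1 := by rw [← pow_add, ← hk, pow_orderOf_eq_one]
  have ht1 : t ≠ 1 := pow_ne_one_of_lt_orderOf hk0 (by omega)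
  have htR : ∀ x ∈ (R : Subgroup G), t * x * t⁻¹ ∈ (R : Subgroup G) := by
    have : ∀ n : ℕ, ∀ x ∈ (R : Subgroup G), c ^ n * x * (c ^ n)⁻¹ ∈ (R : Subgroup G) := by
      intro n
      induction n with
      | zero => simp
      | succ n ih =>
        intro x hx
        have := ih _ (hcR x hx)
        rwa [show c ^ n * (c * x * c⁻¹) * (c ^ n)⁻¹ = c ^ (n + 1) * x * (c ^ (n + 1))⁻¹ by
          rw [pow_succ]; group] at this
    exact this k
  let ψ : (R : Subgroup G) →* (R : Subgroup G) :=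
    { toFun := fun x => ⟨t * x * t⁻¹, htR x x.2⟩
      map_one' := Subtype.ext (by simp)
      map_mul' := fun x y => Subtype.ext (by
        show t * ((x : G) * y) * t⁻¹ = t * x * t⁻¹ * (t * y * t⁻¹)
        group) }
  have hfree : MonoidHom.FixedPointFree (ψ : ↥(R : Subgroup G) → ↥(R : Subgroup G)) := by
    rintro ⟨x, hx⟩ e
    by_contra hne
    have hx1 : x ≠ 1 := fun h => hne (Subtype.ext h)
    have e' : t * x * t⁻¹ = x := congrArg Subtype.val e
    have h1 := d.pow_of_commute (d.order_of_mem R hx hx1) (g := t) (by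
      nth_rewrite 1 [← e']; group)
    have h2 : orderOf t = 2 := orderOf_eq_prime (by rwa [sq]) ht1
    have := (Nat.prime_dvd_prime_iff_eq Nat.prime_two d.hp).mp (h2 ▸ orderOf_dvd_of_pow_eq_one h1)
    exact d.hp2 this.symm
  have hinv : Function.Involutive (ψ : ↥(R : Subgroup G) → ↥(R : Subgroup G)) := fun x => Subtype.ext (by
    show t * (t * x * t⁻¹) * t⁻¹ = x
    calc t * (t * (x : G) * t⁻¹) * t⁻¹ = (t * t) * x * (t * t)⁻¹ := by group
      _ = x := by rw [ht2]; group)
  exact congrArg Subtype.val (hfree.commute_all_of_involutive hinv ⟨u, hu⟩ ⟨v, hv⟩).eq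

theorem cent_eq (R : Sylow p G) {u : G} (hu : u ∈ R) (hu1 : u ≠ 1) :
    Subgroup.centralizer {u} = (R : Subgroup G) :=
  d.eq_of_le_cent R (d.order_of_mem R hu hu1) fun _ hx =>
    Subgroup.mem_centralizer_singleton_iff.mpr (d.sylow_comm R hx hu)

theorem eq_of_mem (R S : Sylow p G) {u : G} (hu : u ∈ R) (hu' : u ∈ S) (hu1 : u ≠ 1) : R = S :=
  Sylow.ext ((d.cent_eq R hu hu1).symm.trans (d.cent_eq S hu' hu1))

theorem card_sylows : Nat.card (Sylow p G) = p ^ f + 1 := by
  classical
  haveI := Fintype.ofFinite G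
  haveI := Fintype.ofFinite (Sylow p G)
  have hex : ∀ g : G, orderOf g = p → ∃ R : Sylow p G, g ∈ R := by
    intro g hg
    obtain ⟨R, hR⟩ := (IsPGroup.of_card (n := 1) (by rw [Nat.card_zpowers, hg, pow_one]) :
      IsPGroup p (Subgroup.zpowers g)).exists_le_sylow
    exact ⟨R, hR (Subgroup.mem_zpowers g)⟩
  choose R hR using hex
  have e : {g : G // orderOf g = p} ≃ Σ S : Sylow p G, {x : G // x ∈ S ∧ x ≠ 1} :=
    { toFun := fun g => ⟨R g.1 g.2, g.1, hR g.1 g.2, fun h => by
        have := g.2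
        rw [h, orderOf_one] at this
        exact d.hp.ne_one this.symm⟩
      invFun := fun x => ⟨x.2.1, d.order_of_mem x.1 x.2.2.1 x.2.2.2⟩
      left_inv := fun g => rfl
      right_inv := by
        rintro ⟨S, x, hx, hx1⟩
        have := d.eq_of_mem _ S (hR x (d.order_of_mem S hx hx1)) hx hx1
        exact Sigma.subtype_ext this rfl }
  have hS : ∀ S : Sylow p G, Nat.card {x : G // x ∈ S ∧ x ≠ 1} = p ^ f - 1 := by
    intro S
    rw [← d.card_sylow S, Nat.card_eq_fintype_card, Fintype.card_subtype,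
      show (Finset.univ.filter fun x : G => x ∈ S ∧ x ≠ 1) =
        (Finset.univ.filter fun x : G => x ∈ S).erase 1 by ext x; simp [and_comm],
      Finset.card_erase_of_mem (by simp [one_mem]), Nat.card_eq_fintype_card, Fintype.card_subtype]
    rfl
  have h := d.num_p
  rw [num, Nat.card_congr e, Nat.card_sigma, Finset.sum_congr rfl fun S _ => hS S, Finset.sum_const,
    Finset.card_univ, smul_eq_mul, ← Nat.card_eq_fintype_card] at h
  have h5 := d.h5
  refine Nat.eq_of_mul_eq_mul_right (show 0 < p ^ f - 1 by omega) (h.trans ?_)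
  have h2 : p ^ f * p ^ f - 1 = (p ^ f + 1) * (p ^ f - 1) := by
    have := Nat.sq_sub_sq (p ^ f) 1
    simpa [sq] using this
  exact h2

theorem mem_of_fix {R S : Sylow p G} {u : G} (hu : u ∈ R) (h : u • S = S) : u ∈ S := by
  have h1 : u ∈ (R : Subgroup G) ⊓ Subgroup.normalizer (S : Set G) :=
    ⟨hu, Sylow.smul_eq_iff_mem_normalizer.mp h⟩
  rw [R.isPGroup'.inf_normalizer_sylow S] at h1
  exact h1.2

theorem fix_self {R : Sylow p G} {u : G} (hu : u ∈ R) : u • R = R :=
  Sylow.smul_eq_iff_mem_normalizer.mpr (Subgroup.le_normalizer hu)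

/-- A Sylow subgroup permutes the others regularly. -/
theorem regular (R : Sylow p G) {y z : Sylow p G} (hy : y ≠ R) (hz : z ≠ R) :
    ∃! u : (R : Subgroup G), (u : G) • y = z := by
  classical
  haveI := Fintype.ofFinite (Sylow p G)
  have hne : ∀ u : (R : Subgroup G), (u : G) • y ≠ R := fun u e =>
    hy (smul_left_cancel (u : G) (e.trans (d.fix_self u.2).symm))
  let φ : ↥(R : Subgroup G) → {S : Sylow p G // S ≠ R} := fun u => ⟨(u : G) • y, hne u⟩
  have hφ : Function.Injective φ := by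
    intro u w e
    have e' : (u : G) • y = (w : G) • y := congrArg Subtype.val e
    by_contra hne'
    have h1 : (((w⁻¹ * u : (R : Subgroup G)) : G)) • y = y := by
      rw [Subgroup.coe_mul, Subgroup.coe_inv, mul_smul, e', inv_smul_smul]
    have h2 : ((w⁻¹ * u : (R : Subgroup G)) : G) ≠ 1 := fun h =>
      hne' (inv_mul_eq_one.mp (Subtype.ext h : w⁻¹ * u = 1)).symm
    exact hy (d.eq_of_mem y R (d.mem_of_fix (w⁻¹ * u).2 h1) (w⁻¹ * u).2 h2)
  have hcard : Nat.card (R : Subgroup G) = Nat.card {S : Sylow p G // S ≠ R} := by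
    rw [show Nat.card (R : Subgroup G) = p ^ f from d.card_sylow R, Nat.card_eq_fintype_card,
      Fintype.card_subtype_compl, Fintype.card_subtype_eq, ← Nat.card_eq_fintype_card, d.card_sylows,
      Nat.add_sub_cancel]
  have hb := (Nat.bijective_iff_injective_and_card φ).mpr ⟨hφ, hcard⟩
  obtain ⟨u, hu⟩ := hb.2 ⟨z, hz⟩
  exact ⟨u, congrArg Subtype.val hu, fun w hw => hb.1 ((Subtype.ext hw : φ w = ⟨z, hz⟩).trans hu.symm)⟩

theorem exists_frame : ∃ D : Frame G (Sylow p G), Nat.card D.F = p ^ f ∧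
    Nat.card D.H = p ^ f - 1 := by
  classical
  have h5 := d.h5
  obtain ⟨a⟩ : Nonempty (Sylow p G) := inferInstance
  obtain ⟨b, hb⟩ : ∃ b : Sylow p G, b ≠ a := by
    by_contra h
    push Not at h
    haveI : Subsingleton (Sylow p G) := ⟨fun x y => (h x).trans (h y).symm⟩
    have := d.card_sylows
    rw [Nat.card_unique] at this
    omega
  have two : ∀ {x y z w : Sylow p G}, x ≠ y → z ≠ w → ∃ g : G, g • x = z ∧ g • y = w := by
    intro x y z w hxy hzw
    obtain ⟨g, hg⟩ := MulAction.exists_smul_eq G x z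
    obtain ⟨u, hu, -⟩ := d.regular z (y := g • y) (z := w)
      (fun e => hxy (smul_left_cancel g (hg.trans e.symm))) hzw.symm
    refine ⟨(u : G) * g, ?_, ?_⟩
    · rw [mul_smul, hg, d.fix_self u.2]
    · rw [mul_smul, hu]
  have free3 : ∀ (g : G) (x y z : Sylow p G), x ≠ y → y ≠ z → x ≠ z → g • x = x → g • y = y →
      g • z = z → g = 1 := by
    intro g x y z hxy hyz hxz hgx hgy hgz
    obtain ⟨u, hu, huniq⟩ := d.regular x hxy.symm hxz.symm
    have hmem : g * u * g⁻¹ ∈ (x : Subgroup G) := by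
      have := Subgroup.mem_normalizer_iff.mp (Sylow.smul_eq_iff_mem_normalizer.mp hgx) (u : G)
      exact this.mp u.2
    have e1 : (g * u * g⁻¹) • y = z := by
      rw [mul_smul, mul_smul, inv_smul_eq_iff.2 hgy.symm, hu, hgz]
    have e2 : g * u * g⁻¹ = (u : G) := congrArg Subtype.val (huniq ⟨_, hmem⟩ e1)
    have hu1 : (u : G) ≠ 1 := fun h => hyz (by rw [h, one_smul] at hu; exact hu)
    have hgC : g ∈ Subgroup.centralizer ({(u : G)} : Set G) :=
      Subgroup.mem_centralizer_singleton_iff.mpr (by nth_rewrite 2 [← e2]; group)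
    rw [d.cent_eq x u.2 hu1] at hgC
    obtain ⟨w, -, hw⟩ := d.regular x hxy.symm hxy.symm
    have h1 := hw ⟨g, hgC⟩ hgy
    have h2 := hw 1 (by simp)
    exact congrArg Subtype.val (h1.trans h2.symm)
  let D : Frame G (Sylow p G) :=
    { a := a
      b := b
      F := a
      hab := hb.symm
      free3 := free3
      two := two
      F_fix := fun _ hu => d.fix_self hu
      F_conj := fun g hg u hu =>
        ((Subgroup.mem_normalizer_iff.mp (Sylow.smul_eq_iff_mem_normalizer.mp hg)) u).mp hu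
      F_reg := fun y z hy hz => d.regular a hy hz }
  have hF : Nat.card D.F = p ^ f := d.card_sylow a
  refine ⟨D, hF, ?_⟩
  have h := D.card_group
  rw [d.hcard, hF] at h
  refine Nat.eq_of_mul_eq_mul_left (show 0 < p ^ f * (p ^ f + 1) by positivity) ?_
  rw [mul_assoc (p ^ f) (p ^ f + 1) (p ^ f - 1), ← show p ^ f * p ^ f - 1 = (p ^ f + 1) * (p ^ f - 1) by
    have := Nat.sq_sub_sq (p ^ f) 1
    simpa [sq] using this, h]
  ring

/-- The group is `PGL(2, K)` with `|K| = q`. -/
theorem iso_pgl : ∃ (K : Type) (_ : Field K) (_ : Fintype K), Fintype.card K = p ^ f ∧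
    Nonempty (G ≃* Matrix.ProjGenLinGroup (Fin 2) K) := by
  obtain ⟨D, hF, hH⟩ := d.exists_frame
  have h5 := d.h5
  have hd : Nat.card D.H = Nat.card D.F - 1 := by rw [hF, hH]
  have hn : 2 ≤ Nat.card D.F := by omega
  have hodd : Odd (Nat.card D.F) := hF ▸ (d.hp.odd_of_ne_two d.hp2).pow
  have hall := (num_two_eq_iff D hn hodd hd).mp (by rw [d.num_two, hF, sq])
  obtain ⟨s, hsa, hsb⟩ := D.two D.hab D.b_ne
  obtain ⟨K, i1, i2, hK, hiso⟩ := D.iso_pgl_of_inverted hn
    (fun e => by rw [e, Subgroup.card_bot] at hd; omega) hd (hall s hsa hsb) hsa hsb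
    fun h hh => D.inversion_of_swaps hall hsa hsb hh
  exact ⟨K, i1, i2, hK.trans hF, hiso⟩

end Hyp

end Cfsg.Agent.Block.NsePGL
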